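import Mathlib
import Groth.Prelude.Def_SheafNL

/-!
# Base change of the naive cotangent complex: the map on `H^{-1}`

Independence of the morphism of extensions, functoriality, and the same-variables presentation
of a cocartesian square.
-/

set_option autoImplicit false

universe u w

open TensorProduct

namespace Groth.Agent.H8.NLBC

section Square

variable {R S R' S' : Type u} [CommRing R] [CommRing S] [CommRing R'] [CommRing S']
  [Algebra R S] [Algebra R' S'] [Algebra R R'] [Algebra S S'] [Algebra R S']
  [IsScalarTower R R' S'] [IsScalarTower R S S']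
  {P : Algebra.Extension.{u} R S} {P' : Algebra.Extension.{u} R' S'}

/-- the degree `-1` component `S' ⊗ I/I² → I'/I'²`. -/
noncomputable abbrev TT (f : P.Hom P') : S' ⊗[S] P.Cotangent →ₗ[S'] P'.Cotangent :=
  LinearMap.liftBaseChange S' (Algebra.Extension.Cotangent.map f)

/-- the degree `0` component. -/
noncomputable abbrev WW (f : P.Hom P') : S' ⊗[S] P.CotangentSpace →ₗ[S'] P'.CotangentSpace :=
  LinearMap.liftBaseChange S' (Algebra.Extension.CotangentSpace.map f)

theorem bcH1Map_coe (f : P.Hom P') (x : NLCx.bcH1 P S') :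
    (NLCx.bcH1Map f x).1 = TT f x.1 := rfl

theorem comm (f : P.Hom P') (z : S' ⊗[S] P.Cotangent) :
    P'.cotangentComplex (TT f z) = WW f (P.cotangentComplex.baseChange S' z) := by
  induction z using TensorProduct.induction_on with
  | zero => simp only [map_zero]
  | tmul a m =>
    simp only [LinearMap.liftBaseChange_tmul, LinearMap.baseChange_tmul, map_smul]
    rw [Algebra.Extension.CotangentSpace.map_cotangentComplex]
  | add z w hz hw => simp only [map_add, hz, hw]

theorem TT_sub (f g : P.Hom P') (z : S' ⊗[S] P.Cotangent) :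
    TT f z - TT g z =
      LinearMap.liftBaseChange S' (f.sub g) (P.cotangentComplex.baseChange S' z) := by
  induction z using TensorProduct.induction_on with
  | zero => simp only [map_zero, sub_zero]
  | tmul a m =>
    simp only [LinearMap.liftBaseChange_tmul, LinearMap.baseChange_tmul]
    rw [← smul_sub, ← LinearMap.sub_apply, Algebra.Extension.Cotangent.map_sub_map,
      LinearMap.comp_apply]
  | add z w hz hw =>
    simp only [map_add]
    rw [← hz, ← hw]
    abel

/-- the map on `H^{-1}` does not depend on the morphism of extensions. -/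
theorem bcH1Map_eq (f g : P.Hom P') : NLCx.bcH1Map (S' := S') f = NLCx.bcH1Map g := by
  apply LinearMap.ext
  intro x
  apply Algebra.Extension.h1Cotangentι_ext
  rw [bcH1Map_coe, bcH1Map_coe]
  have h := TT_sub f g x.1
  have hx : P.cotangentComplex.baseChange S' x.1 = 0 := x.2
  rw [hx, map_zero, sub_eq_zero] at h
  exact h

theorem TT_comp {P'' : Algebra.Extension.{u} R' S'} (w : P'.Hom P'') (f : P.Hom P')
    (z : S' ⊗[S] P.Cotangent) :
    TT (w.comp f) z = Algebra.Extension.Cotangent.map w (TT f z) := by
  induction z using TensorProduct.induction_on with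
  | zero => simp only [map_zero]
  | tmul a m =>
    simp only [LinearMap.liftBaseChange_tmul, map_smul]
    rw [Algebra.Extension.Cotangent.map_comp, LinearMap.comp_apply,
      LinearMap.restrictScalars_apply]
  | add z w' hz hw => simp only [map_add, hz, hw]

theorem bcH1Map_comp {P'' : Algebra.Extension.{u} R' S'} (w : P'.Hom P'') (f : P.Hom P')
    (x : NLCx.bcH1 P S') :
    NLCx.bcH1Map (w.comp f) x = Algebra.Extension.H1Cotangent.map w (NLCx.bcH1Map f x) := by
  apply Algebra.Extension.h1Cotangentι_ext
  show TT (w.comp f) x.1 = Algebra.Extension.Cotangent.map w (TT f x.1)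
  exact TT_comp w f x.1

theorem ker_TT_le (f : P.Hom P') (hW : Function.Injective (WW (S' := S') f)) :
    LinearMap.ker (TT (S' := S') f) ≤ NLCx.bcH1 P S' := by
  intro z hz
  rw [LinearMap.mem_ker] at hz
  show P.cotangentComplex.baseChange S' z = 0
  apply hW
  rw [← comm, hz, map_zero, map_zero]

theorem bcH1Map_surjective (f : P.Hom P') (hW : Function.Injective (WW (S' := S') f))
    (hT : Function.Surjective (TT (S' := S') f)) :
    Function.Surjective (NLCx.bcH1Map (S' := S') f) := by
  intro y
  obtain ⟨z, hz⟩ := hT y.1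
  have hz' : z ∈ NLCx.bcH1 P S' := by
    show P.cotangentComplex.baseChange S' z = 0
    apply hW
    rw [← comm, hz, map_zero]
    exact y.2
  exact ⟨⟨z, hz'⟩, Algebra.Extension.h1Cotangentι_ext _ _ hz⟩

theorem TT_surjective (f : P.Hom P') (hker : P'.ker ≤ Ideal.map f.toRingHom P.ker) :
    Function.Surjective (TT (S' := S') f) := by
  have hle : ∀ a ∈ P.ker, f.toRingHom a ∈ P'.ker := by
    intro a ha
    rw [RingHom.mem_ker] at ha ⊢
    rw [f.algebraMap_toRingHom, ha, map_zero]
  have hle' : Ideal.map f.toRingHom P.ker ≤ P'.ker :=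
    Ideal.map_le_iff_le_comap.mpr (fun a ha => hle a ha)
  have key : ∀ x (_ : x ∈ Ideal.map f.toRingHom P.ker) (hx : x ∈ P'.ker),
      Algebra.Extension.Cotangent.mk ⟨x, hx⟩ ∈ LinearMap.range (TT (S' := S') f) := by
    intro x hJ
    have hJ' : x ∈ Submodule.span P'.Ring (f.toRingHom '' (P.ker : Set P.Ring)) := hJ
    induction hJ' using Submodule.span_induction with
    | mem x hxs =>
      obtain ⟨a, ha, rfl⟩ := hxs
      intro hx
      refine ⟨1 ⊗ₜ Algebra.Extension.Cotangent.mk ⟨a, ha⟩, ?_⟩
      rw [LinearMap.liftBaseChange_tmul, one_smul, Algebra.Extension.Cotangent.map_mk]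
      rfl
    | zero =>
      intro hx
      have : (⟨0, hx⟩ : P'.ker) = 0 := rfl
      rw [this, map_zero]
      exact Submodule.zero_mem _
    | add x y hxJ hyJ ihx ihy =>
      intro hxy
      have hx' : x ∈ P'.ker := hle' hxJ
      have hy' : y ∈ P'.ker := hle' hyJ
      have : (⟨x + y, hxy⟩ : P'.ker) = ⟨x, hx'⟩ + ⟨y, hy'⟩ := rfl
      rw [this, map_add]
      exact Submodule.add_mem _ (ihx hxJ hx') (ihy hyJ hy')
    | smul a x hxJ ih =>
      intro hax
      have hx' : x ∈ P'.ker := hle' hxJ
      have : (⟨a • x, hax⟩ : P'.ker) = a • ⟨x, hx'⟩ := rfl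
      rw [this, map_smul, ← algebraMap_smul S' a]
      exact Submodule.smul_mem _ _ (ih hxJ hx')
  intro y
  obtain ⟨⟨x, hx⟩, rfl⟩ := Algebra.Extension.Cotangent.mk_surjective y
  exact key x (hker hx) hx

/-- the kernel of the map on `H^{-1}` is the kernel of the degree `-1` component, when the degree
`0` component is injective. -/
noncomputable def kerEquiv (f : P.Hom P') (hW : Function.Injective (WW (S' := S') f)) :
    LinearMap.ker (NLCx.bcH1Map (S' := S') f) ≃ₗ[S'] LinearMap.ker (TT (S' := S') f) where
  toFun x := ⟨x.1.1, by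
    have h := x.2
    rw [LinearMap.mem_ker] at h ⊢
    have := congrArg Subtype.val h
    exact this⟩
  map_add' _ _ := rfl
  map_smul' _ _ := rfl
  invFun z := ⟨⟨z.1, ker_TT_le f hW z.2⟩, by
    rw [LinearMap.mem_ker]
    apply Algebra.Extension.h1Cotangentι_ext
    exact LinearMap.mem_ker.1 z.2⟩
  left_inv _ := rfl
  right_inv _ := rfl

end Square

section Gen

variable {R S R' S' : Type u} [CommRing R] [CommRing S] [CommRing R'] [CommRing S']
  [Algebra R S] [Algebra R' S'] [Algebra R R'] [Algebra S S'] [Algebra R S']
  [IsScalarTower R R' S'] [IsScalarTower R S S'] {ι : Type w}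

/-- the same-variables morphism of presentations (universe-polymorphic in the index type; for
`ι : Type u` this is the prelude's `NLCx.sameVarsHom`). -/
noncomputable def svHom (G : Algebra.Generators R S ι) (G' : Algebra.Generators R' S' ι)
    (h : ∀ i, G'.val i = algebraMap S S' (G.val i)) : G.Hom G' where
  val i := MvPolynomial.X i
  aeval_val i := by simp [h]

theorem aeval_comp_algebraMap (G : Algebra.Generators R S ι) (p : MvPolynomial ι R) :
    MvPolynomial.aeval (R := R) (fun i => algebraMap S S' (G.val i)) p =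
      algebraMap S S' (MvPolynomial.aeval G.val p) :=
  (MvPolynomial.comp_aeval_apply G.val (IsScalarTower.toAlgHom R S S') p).symm

/-- the images of the generators generate the pushout. -/
theorem aeval_bc_surjective [Algebra.IsPushout R R' S S'] (G : Algebra.Generators R S ι) :
    Function.Surjective (MvPolynomial.aeval (R := R') (fun i => algebraMap S S' (G.val i))) := by
  have h1 : ∀ s : S, algebraMap S S' s ∈
      (MvPolynomial.aeval (R := R') (fun i => algebraMap S S' (G.val i))).range := by
    intro s
    refine ⟨MvPolynomial.map (algebraMap R R') (G.σ s), ?_⟩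
    show MvPolynomial.aeval (R := R') (fun i => algebraMap S S' (G.val i))
      (MvPolynomial.map (algebraMap R R') (G.σ s)) = _
    rw [MvPolynomial.aeval_map_algebraMap, aeval_comp_algebraMap, G.aeval_val_σ]
  have hbc : IsBaseChange R' (IsScalarTower.toAlgHom R S S').toLinearMap :=
    (inferInstance : Algebra.IsPushout R R' S S').out
  intro y
  have : y ∈ (MvPolynomial.aeval (R := R') (fun i => algebraMap S S' (G.val i))).range := by
    refine hbc.inductionOn y (fun y => y ∈
      (MvPolynomial.aeval (R := R') (fun i => algebraMap S S' (G.val i))).range) ?_ ?_ ?_ ?_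
    · exact Subalgebra.zero_mem _
    · intro s
      exact h1 s
    · intro r n hn
      exact Subalgebra.smul_mem _ hn r
    · intro a b ha hb
      exact Subalgebra.add_mem _ ha hb
  exact this

theorem mem_of_mem_ker [Algebra.IsPushout R R' S S'] (G : Algebra.Generators R S ι)
    (G' : Algebra.Generators R' S' ι) (h : ∀ i, G'.val i = algebraMap S S' (G.val i))
    (J : Ideal (MvPolynomial ι R')) (hJ : ∀ a ∈ G.ker, (svHom G G' h).toAlgHom a ∈ J)
    (x : MvPolynomial ι R') (hx : x ∈ G'.ker) : x ∈ J := by
  obtain ⟨gS, hgS⟩ : ∃ gS : S →ₐ[R] (MvPolynomial ι R' ⧸ J), ∀ a : MvPolynomial ι R,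
      gS (MvPolynomial.aeval G.val a) = Ideal.Quotient.mk J ((svHom G G' h).toAlgHom a) := by
    have hS : Function.Surjective (MvPolynomial.aeval (R := R) G.val) := G.aeval_val_surjective
    refine ⟨AlgHom.liftOfSurjective (MvPolynomial.aeval (R := R) G.val) hS
      ((Ideal.Quotient.mkₐ R J).comp (svHom G G' h).toAlgHom) ?_, fun a => ?_⟩
    · intro a ha
      rw [RingHom.mem_ker] at ha ⊢
      have ha' : a ∈ G.ker := by
        rw [G.ker_eq_ker_aeval_val, RingHom.mem_ker]
        exact ha
      show Ideal.Quotient.mk J ((svHom G G' h).toAlgHom a) = 0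
      exact Ideal.Quotient.eq_zero_iff_mem.mpr (hJ a ha')
    · rw [AlgHom.liftOfSurjective_apply]
      rfl
  obtain ⟨gR', hgR'⟩ : ∃ gR' : R' →ₐ[R] (MvPolynomial ι R' ⧸ J),
      ∀ r', gR' r' = Ideal.Quotient.mk J (MvPolynomial.C r') :=
    ⟨(Ideal.Quotient.mkₐ R J).comp (IsScalarTower.toAlgHom R R' (MvPolynomial ι R')), fun r' => by
      show Ideal.Quotient.mk J (algebraMap R' (MvPolynomial ι R') r') = _
      rw [MvPolynomial.algebraMap_eq]⟩
  obtain ⟨Ψ, hΨ1, hΨ2⟩ : ∃ Ψ : S' →ₐ[R] (MvPolynomial ι R' ⧸ J),
      (∀ r', Ψ (algebraMap R' S' r') = gR' r') ∧ (∀ s, Ψ (algebraMap S S' s) = gS s) :=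
    ⟨Algebra.pushoutDesc S' gR' gS (fun _ _ => mul_comm _ _),
      fun r' => Algebra.pushoutDesc_left S' gR' gS _ r',
      fun s => Algebra.pushoutDesc_right S' gR' gS _ s⟩
  have key : ∀ y : MvPolynomial ι R',
      Ψ (MvPolynomial.aeval (R := R') G'.val y) = Ideal.Quotient.mk J y := by
    have hh : Ψ.toRingHom.comp (MvPolynomial.aeval (R := R') G'.val).toRingHom =
        Ideal.Quotient.mk J := by
      apply MvPolynomial.ringHom_ext
      · intro r'
        show Ψ (MvPolynomial.aeval (R := R') G'.val (MvPolynomial.C r')) = _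
        rw [MvPolynomial.aeval_C, hΨ1, hgR']
      · intro i
        show Ψ (MvPolynomial.aeval (R := R') G'.val (MvPolynomial.X i)) = _
        rw [MvPolynomial.aeval_X, h i, hΨ2]
        have h2 := hgS (MvPolynomial.X i)
        rw [MvPolynomial.aeval_X] at h2
        rw [h2, Algebra.Generators.Hom.toAlgHom_X]
        rfl
    intro y
    exact RingHom.congr_fun hh y
  have h0 : MvPolynomial.aeval (R := R') G'.val x = 0 := Algebra.Generators.aeval_val_eq_zero hx
  have h1 := key x
  rw [h0, map_zero] at h1
  exact Ideal.Quotient.eq_zero_iff_mem.mp h1.symm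

theorem ker_le_map [Algebra.IsPushout R R' S S'] (G : Algebra.Generators R S ι)
    (G' : Algebra.Generators R' S' ι) (h : ∀ i, G'.val i = algebraMap S S' (G.val i)) :
    G'.toExtension.ker ≤
      Ideal.map (svHom G G' h).toExtensionHom.toRingHom G.toExtension.ker := by
  intro x hx
  refine mem_of_mem_ker G G' h _ (fun a ha => ?_) x hx
  exact Ideal.mem_map_of_mem (svHom G G' h).toExtensionHom.toRingHom ha

theorem WW_injective (G : Algebra.Generators R S ι) (G' : Algebra.Generators R' S' ι)
    (h : ∀ i, G'.val i = algebraMap S S' (G.val i)) :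
    Function.Injective (LinearMap.liftBaseChange S'
      (Algebra.Extension.CotangentSpace.map (svHom G G' h).toExtensionHom)) := by
  have hW : LinearMap.liftBaseChange S'
      (Algebra.Extension.CotangentSpace.map (svHom G G' h).toExtensionHom) =
      ((G.cotangentSpaceBasis.baseChange S').equiv G'.cotangentSpaceBasis
        (Equiv.refl ι)).toLinearMap := by
    refine (G.cotangentSpaceBasis.baseChange S').ext fun i => ?_
    rw [LinearEquiv.coe_coe, Module.Basis.equiv_apply, Equiv.refl_apply,
      Module.Basis.baseChange_apply, LinearMap.liftBaseChange_tmul, one_smul,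
      Algebra.Generators.cotangentSpaceBasis_apply, Algebra.Generators.cotangentSpaceBasis_apply]
    have key := Algebra.Extension.CotangentSpace.map_tmul (svHom G G' h).toExtensionHom (1 : S)
      (MvPolynomial.X i)
    rw [map_one] at key
    have hX : (svHom G G' h).toExtensionHom.toAlgHom (MvPolynomial.X i) = MvPolynomial.X i :=
      Algebra.Generators.Hom.toAlgHom_X (svHom G G' h) i
    rw [hX] at key
    exact key
  rw [hW]
  exact ((G.cotangentSpaceBasis.baseChange S').equiv G'.cotangentSpaceBasis
    (Equiv.refl ι)).injective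

end Gen

section GenU

variable {R S R' S' : Type u} [CommRing R] [CommRing S] [CommRing R'] [CommRing S']
  [Algebra R S] [Algebra R' S'] [Algebra R R'] [Algebra S S'] [Algebra R S']
  [IsScalarTower R R' S'] [IsScalarTower R S S'] [Algebra.IsPushout R R' S S']

theorem surj_sv {ι : Type u} (G : Algebra.Generators R S ι) (G' : Algebra.Generators R' S' ι)
    (h : ∀ i, G'.val i = algebraMap S S' (G.val i)) :
    Function.Surjective (NLCx.bcH1Map (S' := S') (svHom G G' h).toExtensionHom) :=
  bcH1Map_surjective _ (WW_injective G G' h) (TT_surjective _ (ker_le_map G G' h))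

/-- S7221. -/
theorem main7221 {ι : Type u} (G : Algebra.Generators R S ι) (G' : Algebra.Generators R' S' ι)
    (h : ∀ i, G'.val i = algebraMap S S' (G.val i)) :
    Function.Surjective (NLCx.bcH1Map (NLCx.sameVarsHom G G' h).toExtensionHom) ∧
      Function.Surjective (NLCx.bcH1Map
        ((Algebra.Generators.self R S).defaultHom
          (Algebra.Generators.self R' S')).toExtensionHom) := by
  constructor
  · exact surj_sv G G' h
  · obtain ⟨G'', hG''⟩ : ∃ G'' : Algebra.Generators R' S' S,
        ∀ i, G''.val i = algebraMap S S' ((Algebra.Generators.self R S).val i) :=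
      ⟨Algebra.Generators.ofSurjective
        (fun i => algebraMap S S' ((Algebra.Generators.self R S).val i))
        (aeval_bc_surjective (Algebra.Generators.self R S)), fun _ => rfl⟩
    have h1 := surj_sv (Algebra.Generators.self R S) G'' hG''
    intro y
    obtain ⟨y', hy'⟩ := (Algebra.Extension.H1Cotangent.equiv
      (G''.defaultHom (Algebra.Generators.self R' S')).toExtensionHom
      ((Algebra.Generators.self R' S').defaultHom G'').toExtensionHom).surjective y
    obtain ⟨x, hx⟩ := h1 y'
    refine ⟨x, ?_⟩
    rw [bcH1Map_eq _ ((G''.defaultHom (Algebra.Generators.self R' S')).toExtensionHom.comp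
      (svHom (Algebra.Generators.self R S) G'' hG'').toExtensionHom), bcH1Map_comp, hx]
    exact hy'

end GenU

end Groth.Agent.H8.NLBC
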