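import Mathlib
import Groth.Prelude.Def_SheafNL
import Groth.Agent.Lib.Helper8.NLBC.A

/-!
# Base change of the naive cotangent complex: change of presentation on the source, and the
kernel of the map on `H^{-1}` for local complete intersections
-/

set_option autoImplicit false

universe u w

open TensorProduct

namespace Groth.Agent.H8.NLBC

section Res

variable {R S : Type u} [CommRing R] [CommRing S] [Algebra R S]
  (S' : Type u) [CommRing S'] [Algebra S S']
  {P Q : Algebra.Extension.{u} R S}

/-- the base change of the map on `I/I²` induced by a morphism of extensions of `S` over `R`. -/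
noncomputable abbrev UU (u : P.Hom Q) : S' ⊗[S] P.Cotangent →ₗ[S'] S' ⊗[S] Q.Cotangent :=
  (Algebra.Extension.Cotangent.map u).baseChange S'

theorem UU_comm (u : P.Hom Q) (z : S' ⊗[S] P.Cotangent) :
    Q.cotangentComplex.baseChange S' (UU S' u z) =
      (Algebra.Extension.CotangentSpace.map u).baseChange S'
        (P.cotangentComplex.baseChange S' z) := by
  induction z using TensorProduct.induction_on with
  | zero => simp only [map_zero]
  | tmul a m =>
    simp only [LinearMap.baseChange_tmul]
    rw [Algebra.Extension.CotangentSpace.map_cotangentComplex]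
  | add z w hz hw => simp only [map_add, hz, hw]

/-- the map `H^{-1}(NL(P) ⊗ S') → H^{-1}(NL(Q) ⊗ S')` induced by a morphism of extensions. -/
noncomputable def bcH1Res (u : P.Hom Q) : NLCx.bcH1 P S' →ₗ[S'] NLCx.bcH1 Q S' :=
  (UU S' u).restrict (p := NLCx.bcH1 P S') (q := NLCx.bcH1 Q S') (fun x hx => by
    have hx' : P.cotangentComplex.baseChange S' x = 0 := hx
    show Q.cotangentComplex.baseChange S' (UU S' u x) = 0
    rw [UU_comm, hx', map_zero])

theorem bcH1Res_coe (u : P.Hom Q) (x : NLCx.bcH1 P S') :
    (bcH1Res S' u x).1 = UU S' u x.1 := rfl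

theorem UU_sub (u u' : P.Hom Q) (z : S' ⊗[S] P.Cotangent) :
    UU S' u z - UU S' u' z =
      (u.sub u').baseChange S' (P.cotangentComplex.baseChange S' z) := by
  induction z using TensorProduct.induction_on with
  | zero => simp only [map_zero, sub_zero]
  | tmul a m =>
    simp only [LinearMap.baseChange_tmul]
    rw [← TensorProduct.tmul_sub, ← LinearMap.sub_apply,
      Algebra.Extension.Cotangent.map_sub_map, LinearMap.comp_apply]
  | add z w hz hw =>
    simp only [map_add]
    rw [← hz, ← hw]
    abel

theorem bcH1Res_eq (u u' : P.Hom Q) : bcH1Res S' u = bcH1Res S' u' := by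
  apply LinearMap.ext
  intro x
  apply Subtype.ext
  rw [bcH1Res_coe, bcH1Res_coe]
  have h := UU_sub S' u u' x.1
  have hx : P.cotangentComplex.baseChange S' x.1 = 0 := x.2
  rw [hx, map_zero, sub_eq_zero] at h
  exact h

theorem UU_comp {Q' : Algebra.Extension.{u} R S} (w : Q.Hom Q') (u : P.Hom Q)
    (z : S' ⊗[S] P.Cotangent) :
    UU S' (w.comp u) z = UU S' w (UU S' u z) := by
  induction z using TensorProduct.induction_on with
  | zero => simp only [map_zero]
  | tmul a m =>
    simp only [LinearMap.baseChange_tmul]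
    rw [Algebra.Extension.Cotangent.map_comp, LinearMap.comp_apply,
      LinearMap.restrictScalars_apply]
  | add z w' hz hw => simp only [map_add, hz, hw]

theorem UU_id (z : S' ⊗[S] P.Cotangent) :
    UU S' (Algebra.Extension.Hom.id P) z = z := by
  simp only [UU, Algebra.Extension.Cotangent.map_id, LinearMap.baseChange_id,
    LinearMap.id_apply]

theorem bcH1Res_bcH1Res (u : P.Hom Q) (v : Q.Hom P) (x : NLCx.bcH1 P S') :
    bcH1Res S' v (bcH1Res S' u x) = x := by
  apply Subtype.ext
  rw [bcH1Res_coe, bcH1Res_coe, ← UU_comp]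
  have h := congrArg Subtype.val
    (LinearMap.congr_fun (bcH1Res_eq S' (v.comp u) (Algebra.Extension.Hom.id P)) x)
  rw [bcH1Res_coe, bcH1Res_coe, UU_id] at h
  exact h

/-- two extensions of `S` over `R` with morphisms in both directions have isomorphic
`H^{-1}(NL ⊗ S')`. -/
noncomputable def bcH1ResEquiv (u : P.Hom Q) (v : Q.Hom P) :
    NLCx.bcH1 P S' ≃ₗ[S'] NLCx.bcH1 Q S' :=
  { bcH1Res S' u with
    invFun := bcH1Res S' v
    left_inv := fun x => bcH1Res_bcH1Res S' u v x
    right_inv := fun x => bcH1Res_bcH1Res S' v u x }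

theorem bcH1ResEquiv_apply (u : P.Hom Q) (v : Q.Hom P) (x : NLCx.bcH1 P S') :
    bcH1ResEquiv S' u v x = bcH1Res S' u x := rfl

end Res

section Mixed

variable {R S R' S' : Type u} [CommRing R] [CommRing S] [CommRing R'] [CommRing S']
  [Algebra R S] [Algebra R' S'] [Algebra R R'] [Algebra S S'] [Algebra R S']
  [IsScalarTower R R' S'] [IsScalarTower R S S']
  {P Q : Algebra.Extension.{u} R S} {P' Q' : Algebra.Extension.{u} R' S'}

theorem TT_comp_right (f : Q.Hom P') (u : P.Hom Q) (z : S' ⊗[S] P.Cotangent) :
    TT (S' := S') (f.comp u) z = TT f (UU S' u z) := by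
  induction z using TensorProduct.induction_on with
  | zero => simp only [map_zero]
  | tmul a m =>
    simp only [LinearMap.liftBaseChange_tmul, LinearMap.baseChange_tmul]
    rw [Algebra.Extension.Cotangent.map_comp, LinearMap.comp_apply,
      LinearMap.restrictScalars_apply]
  | add z w' hz hw => simp only [map_add, hz, hw]

theorem bcH1Map_comp_right (f : Q.Hom P') (u : P.Hom Q) (x : NLCx.bcH1 P S') :
    NLCx.bcH1Map (S' := S') (f.comp u) x = NLCx.bcH1Map f (bcH1Res S' u x) := by
  apply Algebra.Extension.h1Cotangentι_ext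
  show TT (S' := S') (f.comp u) x.1 = TT f (UU S' u x.1)
  exact TT_comp_right f u x.1

/-- comparison of the kernels of the maps on `H^{-1}` for two pairs of presentations. -/
theorem ker_iff (d : P.Hom P') (s : Q.Hom Q') (u : P.Hom Q) (v' : Q'.Hom P') (u' : P'.Hom Q')
    (x : NLCx.bcH1 P S') :
    NLCx.bcH1Map (S' := S') d x = 0 ↔ NLCx.bcH1Map (S' := S') s (bcH1Res S' u x) = 0 := by
  have e1 : NLCx.bcH1Map (S' := S') d x =
      Algebra.Extension.H1Cotangent.map v' (NLCx.bcH1Map (S' := S') s (bcH1Res S' u x)) := by
    rw [← bcH1Map_comp_right s u x, ← bcH1Map_comp v' (s.comp u) x]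
    exact LinearMap.congr_fun (bcH1Map_eq d _) x
  have inj : Function.Injective (Algebra.Extension.H1Cotangent.map v') := by
    intro a b hab
    exact (Algebra.Extension.H1Cotangent.equiv v' u').injective hab
  constructor
  · intro h
    apply inj
    rw [← e1, h, map_zero]
  · intro h
    rw [e1, h, map_zero]

end Mixed

section Lin

/-- a linear equivalence carrying one kernel condition to another restricts to the kernels. -/
noncomputable def kerEquivOfEquiv {A M N X Y : Type*} [CommRing A] [AddCommGroup M] [Module A M]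
    [AddCommGroup N] [Module A N] [AddCommGroup X] [Module A X] [AddCommGroup Y] [Module A Y]
    (E : M ≃ₗ[A] N) (f : M →ₗ[A] X) (g : N →ₗ[A] Y) (h : ∀ x, f x = 0 ↔ g (E x) = 0) :
    LinearMap.ker f ≃ₗ[A] LinearMap.ker g where
  toFun x := ⟨E x.1, LinearMap.mem_ker.2 ((h x.1).1 (LinearMap.mem_ker.1 x.2))⟩
  invFun y := ⟨E.symm y.1, LinearMap.mem_ker.2 ((h _).2 (by
    rw [E.apply_symm_apply]
    exact LinearMap.mem_ker.1 y.2))⟩
  map_add' x y := Subtype.ext (map_add E _ _)
  map_smul' c x := Subtype.ext (map_smul E _ _)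
  left_inv x := Subtype.ext (E.symm_apply_apply _)
  right_inv y := Subtype.ext (E.apply_symm_apply _)

/-- the kernel of a surjection from a finite projective module onto a projective module is finite
projective. -/
theorem finite_projective_ker {A M N : Type*} [CommRing A] [AddCommGroup M] [Module A M]
    [AddCommGroup N] [Module A N] [Module.Finite A M] [Module.Projective A M]
    [Module.Projective A N] (T : M →ₗ[A] N) (hT : Function.Surjective T) :
    Module.Finite A (LinearMap.ker T) ∧ Module.Projective A (LinearMap.ker T) := by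
  obtain ⟨σ, hσ⟩ := Module.projective_lifting_property T LinearMap.id hT
  have hσ' : ∀ y, T (σ y) = y := fun y => LinearMap.congr_fun hσ y
  obtain ⟨p, hp⟩ : ∃ p : M →ₗ[A] LinearMap.ker T, ∀ x, (p x : M) = x - σ (T x) :=
    ⟨(LinearMap.id - σ ∘ₗ T).codRestrict (LinearMap.ker T) (fun x => by
      rw [LinearMap.mem_ker]
      simp only [LinearMap.sub_apply, LinearMap.id_apply, LinearMap.comp_apply, map_sub, hσ',
        sub_self]), fun x => rfl⟩
  have hpi : p ∘ₗ (LinearMap.ker T).subtype = LinearMap.id := by
    apply LinearMap.ext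
    intro x
    apply Subtype.ext
    rw [LinearMap.comp_apply, hp, Submodule.subtype_apply, LinearMap.mem_ker.1 x.2, map_zero,
      sub_zero, LinearMap.id_apply]
  refine ⟨?_, Module.Projective.of_split (LinearMap.ker T).subtype p hpi⟩
  refine Module.Finite.of_surjective p (fun x => ⟨x.1, ?_⟩)
  exact LinearMap.congr_fun hpi x

end Lin

end Groth.Agent.H8.NLBC
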