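import Mathlib
import Groth.Prelude.Def_SheafNL
import Groth.Agent.Lib.Helper8.NLBC.A
import Groth.Agent.Lib.Helper8.NLBC.B
import Groth.Agent.Lib.Helper8.LCI.KRCot
import Groth.Agent.Lib.Helper8.LCI.Transfer
import Groth.Agent.Lib.Helper8.KosDesc.FG
import Groth.Agent.Lib.Helper8.Kos.Pres

/-!
# The kernel of the base-change map on `H^{-1}(NL)` for local complete intersections
-/

set_option autoImplicit false

universe u w

open TensorProduct

namespace Groth.Agent.H8.NLBC

section LCI

variable (A B A' B' : Type u) [CommRing A] [CommRing B] [CommRing A'] [CommRing B']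
  [Algebra A B] [Algebra A' B'] [Algebra A A'] [Algebra B B'] [Algebra A B']
  [IsScalarTower A A' B'] [IsScalarTower A B B'] [Algebra.IsPushout A A' B B']

theorem main_of_gens {n : ℕ} (G : Algebra.Generators A B (Fin n))
    (G' : Algebra.Generators A' B' (Fin n))
    (h : ∀ i, G'.val i = algebraMap B B' (G.val i))
    (hK : LCI.IsKoszulRegularIdeal G.toExtension.ker)
    (hK' : LCI.IsKoszulRegularIdeal G'.toExtension.ker)
    (d : (Algebra.Generators.self A B).toExtension.Hom
      (Algebra.Generators.self A' B').toExtension) :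
    Module.Finite B' (LinearMap.ker (NLCx.bcH1Map (S' := B') d)) ∧
      Module.Projective B' (LinearMap.ker (NLCx.bcH1Map (S' := B') d)) := by
  classical
  haveI := Groth.Agent.H8.LCI.projective_cotangent_of_isKoszulRegularIdeal hK
  haveI : Module.Projective B G.toExtension.Cotangent :=
    Groth.Agent.H8.LCI.projective_extCotangent_of_projective _
  haveI : Module.Finite B G.toExtension.Cotangent :=
    Algebra.Extension.Cotangent.finite (Groth.Agent.H8.KosDesc.fg_of_isKoszulRegularIdeal _ hK)
  haveI := Groth.Agent.H8.LCI.projective_cotangent_of_isKoszulRegularIdeal hK'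
  haveI : Module.Projective B' G'.toExtension.Cotangent :=
    Groth.Agent.H8.LCI.projective_extCotangent_of_projective _
  obtain ⟨s, hs⟩ : ∃ s : G.toExtension.Hom G'.toExtension, s = (svHom G G' h).toExtensionHom :=
    ⟨_, rfl⟩
  have hT : Function.Surjective (TT (S' := B') s) := by
    rw [hs]
    exact TT_surjective _ (ker_le_map G G' h)
  have hW : Function.Injective (WW (S' := B') s) := by
    rw [hs]
    exact WW_injective G G' h
  obtain ⟨hfin, hproj⟩ := finite_projective_ker (TT (S' := B') s) hT
  obtain ⟨E₀, hE₀⟩ : ∃ E₀ : NLCx.bcH1 (Algebra.Generators.self A B).toExtension B' ≃ₗ[B']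
      NLCx.bcH1 G.toExtension B', ∀ x, E₀ x =
        bcH1Res B' ((Algebra.Generators.self A B).defaultHom G).toExtensionHom x :=
    ⟨bcH1ResEquiv B' ((Algebra.Generators.self A B).defaultHom G).toExtensionHom
      (G.defaultHom (Algebra.Generators.self A B)).toExtensionHom, fun _ => rfl⟩
  have hiff : ∀ x, NLCx.bcH1Map (S' := B') d x = 0 ↔ NLCx.bcH1Map (S' := B') s (E₀ x) = 0 := by
    intro x
    rw [hE₀]
    exact ker_iff d s ((Algebra.Generators.self A B).defaultHom G).toExtensionHom
      (G'.defaultHom (Algebra.Generators.self A' B')).toExtensionHom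
      ((Algebra.Generators.self A' B').defaultHom G').toExtensionHom x
  let E := kerEquivOfEquiv (A := B')
    (M := NLCx.bcH1 (Algebra.Generators.self A B).toExtension B') (N := NLCx.bcH1 G.toExtension B')
    (X := (Algebra.Generators.self A' B').toExtension.H1Cotangent)
    (Y := G'.toExtension.H1Cotangent) E₀ (NLCx.bcH1Map (S' := B') d)
    (NLCx.bcH1Map (S' := B') s) hiff
  let E2 := kerEquiv s hW
  exact ⟨Module.Finite.equiv (E.trans E2).symm, Module.Projective.of_equiv (E.trans E2).symm⟩

/-- S7223. -/
theorem main7223 (hB : LCI.IsLCI A B) (hB' : LCI.IsLCI A' B') :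
    Module.Finite B' (LinearMap.ker (NLCx.bcH1Map
        ((Algebra.Generators.self A B).defaultHom
          (Algebra.Generators.self A' B')).toExtensionHom)) ∧
      Module.Projective B' (LinearMap.ker (NLCx.bcH1Map
        ((Algebra.Generators.self A B).defaultHom
          (Algebra.Generators.self A' B')).toExtensionHom)) := by
  obtain ⟨-, n, f, hf, hK⟩ := hB
  obtain ⟨-, n', f', hf', hK'⟩ := hB'
  obtain ⟨G, hGker⟩ : ∃ G : Algebra.Generators A B (Fin n),
      G.toExtension.ker = RingHom.ker f.toRingHom :=
    ⟨Algebra.Generators.ofAlgHom f hf, Algebra.Generators.ker_ofAlgHom f hf⟩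
  obtain ⟨G', hG'⟩ : ∃ G' : Algebra.Generators A' B' (Fin n),
      ∀ i, G'.val i = algebraMap B B' (G.val i) :=
    ⟨Algebra.Generators.ofSurjective (fun i => algebraMap B B' (G.val i))
      (aeval_bc_surjective G), fun _ => rfl⟩
  have hKG : LCI.IsKoszulRegularIdeal G.toExtension.ker := by
    rw [hGker]
    exact hK
  have hKG' : LCI.IsKoszulRegularIdeal G'.toExtension.ker := by
    have h9 := Groth.Agent.H8.KosIndep.main9269 A' B' n' n f' hf'
      (MvPolynomial.aeval (R := A') G'.val) G'.aeval_val_surjective hK'
    have e : G'.toExtension.ker = RingHom.ker (MvPolynomial.aeval (R := A') G'.val).toRingHom :=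
      G'.ker_eq_ker_aeval_val
    rw [e]
    exact h9
  exact main_of_gens A B A' B' G G' hG' hKG hKG' _

end LCI

end Groth.Agent.H8.NLBC
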